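import Cfsg.Agent.Lib.Helper12.TCG.Fi22Ie185328.Rel0
import Cfsg.Agent.Lib.Helper12.TCG.Fi22Ie185328.Rel1
import Cfsg.Agent.Lib.Helper12.TCG.Fi22Ie185328.Rel2
import Cfsg.Agent.Lib.Helper12.TCG.Fi22Ie185328.Rel3
import Cfsg.Agent.Lib.Helper12.TCG.Fi22Ie185328.Rel4
import Cfsg.Agent.Lib.Helper12.TCG.Fi22Ie185328.Rel5
import Cfsg.Agent.Lib.Helper12.TCG.Fi22Ie185328.Rel6
import Cfsg.Agent.Lib.Helper12.TCG.Fi22Ie185328.Rel7
import Cfsg.Agent.Lib.Helper12.TCG.Fi22Ie185328.Rel8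
import Cfsg.Agent.Lib.Helper12.TCG.Fi22Ie185328.Rel9
import Cfsg.Agent.Lib.Helper12.TCG.Fi22Ie185328.Rel10
import Cfsg.Agent.Lib.Helper12.TCG.Fi22Ie185328.Rel11
import Cfsg.Agent.Lib.Helper12.TCG.Fi22Ie185328.Rel12
import Cfsg.Agent.Lib.Helper12.TCG.Fi22Ie185328.Rel13
import Cfsg.Agent.Lib.Helper12.TCG.Fi22Ie185328.Rel14
import Cfsg.Agent.Lib.Helper12.TCG.Fi22Ie185328.Rel15
import Cfsg.Agent.Lib.Helper12.TCG.Fi22Ie185328.Rel16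
import Cfsg.Agent.Lib.Helper12.TCG.Fi22Ie185328.Rel17
import Cfsg.Agent.Lib.Helper12.TCG.Fi22Ie185328.Rel18
import Cfsg.Agent.Lib.Helper12.TCG.Fi22Ie185328.Rel19
import Cfsg.Agent.Lib.Helper12.TCG.Fi22Ie185328.Rel20
import Cfsg.Agent.Lib.Helper12.TCG.Fi22Ie185328.Rel21
import Cfsg.Agent.Lib.Helper12.TCG.Fi22Ie185328.Rel22
import Cfsg.Agent.Lib.Helper12.TCG.Fi22Ie185328.Rel23
import Cfsg.Agent.Lib.Helper12.Fi22M.PresI9

/-! the permutation representation for Fi22Ie185328 (generated, helper12) -/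

set_option autoImplicit false
set_option maxRecDepth 100000
set_option linter.unusedSimpArgs false
set_option Elab.async false

namespace Cfsg.Agent.Lib.Helper12.TCG.Fi22Ie185328

open Cfsg.Agent.Lib.Helper12.TC Cfsg.Agent.Lib.Helper12.TCG Cfsg.Agent.Lib.Helper12.Fi22M.PresI9

theorem htN : tN = cN := rfl

theorem hperm0 : permOneG 18364758544493064720 TT 0 tN = true :=
  permOneG_of_OK (permOK_step hperm0_11 rfl
    (permOK_step hperm0_10 rfl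
    (permOK_step hperm0_9 rfl
    (permOK_step hperm0_8 rfl
    (permOK_step hperm0_7 rfl
    (permOK_step hperm0_6 rfl
    (permOK_step hperm0_5 rfl
    (permOK_step hperm0_4 rfl
    (permOK_step hperm0_3 rfl
    (permOK_step hperm0_2 rfl
    (permOK_step hperm0_1 rfl
    (permOK_step hperm0_0 rfl
    (permOK_start 18364758544493064720 TT 0 tN)))))))))))))

theorem hperm1 : permOneG 18364758544493064720 TT 1 tN = true :=
  permOneG_of_OK (permOK_step hperm1_11 rfl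
    (permOK_step hperm1_10 rfl
    (permOK_step hperm1_9 rfl
    (permOK_step hperm1_8 rfl
    (permOK_step hperm1_7 rfl
    (permOK_step hperm1_6 rfl
    (permOK_step hperm1_5 rfl
    (permOK_step hperm1_4 rfl
    (permOK_step hperm1_3 rfl
    (permOK_step hperm1_2 rfl
    (permOK_step hperm1_1 rfl
    (permOK_step hperm1_0 rfl
    (permOK_start 18364758544493064720 TT 1 tN)))))))))))))

theorem hperm2 : permOneG 18364758544493064720 TT 2 tN = true :=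
  permOneG_of_OK (permOK_step hperm2_11 rfl
    (permOK_step hperm2_10 rfl
    (permOK_step hperm2_9 rfl
    (permOK_step hperm2_8 rfl
    (permOK_step hperm2_7 rfl
    (permOK_step hperm2_6 rfl
    (permOK_step hperm2_5 rfl
    (permOK_step hperm2_4 rfl
    (permOK_step hperm2_3 rfl
    (permOK_step hperm2_2 rfl
    (permOK_step hperm2_1 rfl
    (permOK_step hperm2_0 rfl
    (permOK_start 18364758544493064720 TT 2 tN)))))))))))))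

theorem hperm3 : permOneG 18364758544493064720 TT 3 tN = true :=
  permOneG_of_OK (permOK_step hperm3_11 rfl
    (permOK_step hperm3_10 rfl
    (permOK_step hperm3_9 rfl
    (permOK_step hperm3_8 rfl
    (permOK_step hperm3_7 rfl
    (permOK_step hperm3_6 rfl
    (permOK_step hperm3_5 rfl
    (permOK_step hperm3_4 rfl
    (permOK_step hperm3_3 rfl
    (permOK_step hperm3_2 rfl
    (permOK_step hperm3_1 rfl
    (permOK_step hperm3_0 rfl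
    (permOK_start 18364758544493064720 TT 3 tN)))))))))))))

theorem hperm4 : permOneG 18364758544493064720 TT 4 tN = true :=
  permOneG_of_OK (permOK_step hperm4_11 rfl
    (permOK_step hperm4_10 rfl
    (permOK_step hperm4_9 rfl
    (permOK_step hperm4_8 rfl
    (permOK_step hperm4_7 rfl
    (permOK_step hperm4_6 rfl
    (permOK_step hperm4_5 rfl
    (permOK_step hperm4_4 rfl
    (permOK_step hperm4_3 rfl
    (permOK_step hperm4_2 rfl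
    (permOK_step hperm4_1 rfl
    (permOK_step hperm4_0 rfl
    (permOK_start 18364758544493064720 TT 4 tN)))))))))))))

theorem hperm5 : permOneG 18364758544493064720 TT 5 tN = true :=
  permOneG_of_OK (permOK_step hperm5_11 rfl
    (permOK_step hperm5_10 rfl
    (permOK_step hperm5_9 rfl
    (permOK_step hperm5_8 rfl
    (permOK_step hperm5_7 rfl
    (permOK_step hperm5_6 rfl
    (permOK_step hperm5_5 rfl
    (permOK_step hperm5_4 rfl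
    (permOK_step hperm5_3 rfl
    (permOK_step hperm5_2 rfl
    (permOK_step hperm5_1 rfl
    (permOK_step hperm5_0 rfl
    (permOK_start 18364758544493064720 TT 5 tN)))))))))))))

theorem hperm6 : permOneG 18364758544493064720 TT 6 tN = true :=
  permOneG_of_OK (permOK_step hperm6_11 rfl
    (permOK_step hperm6_10 rfl
    (permOK_step hperm6_9 rfl
    (permOK_step hperm6_8 rfl
    (permOK_step hperm6_7 rfl
    (permOK_step hperm6_6 rfl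
    (permOK_step hperm6_5 rfl
    (permOK_step hperm6_4 rfl
    (permOK_step hperm6_3 rfl
    (permOK_step hperm6_2 rfl
    (permOK_step hperm6_1 rfl
    (permOK_step hperm6_0 rfl
    (permOK_start 18364758544493064720 TT 6 tN)))))))))))))

theorem hperm7 : permOneG 18364758544493064720 TT 7 tN = true :=
  permOneG_of_OK (permOK_step hperm7_11 rfl
    (permOK_step hperm7_10 rfl
    (permOK_step hperm7_9 rfl
    (permOK_step hperm7_8 rfl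
    (permOK_step hperm7_7 rfl
    (permOK_step hperm7_6 rfl
    (permOK_step hperm7_5 rfl
    (permOK_step hperm7_4 rfl
    (permOK_step hperm7_3 rfl
    (permOK_step hperm7_2 rfl
    (permOK_step hperm7_1 rfl
    (permOK_step hperm7_0 rfl
    (permOK_start 18364758544493064720 TT 7 tN)))))))))))))

theorem hperm8 : permOneG 18364758544493064720 TT 8 tN = true :=
  permOneG_of_OK (permOK_step hperm8_11 rfl
    (permOK_step hperm8_10 rfl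
    (permOK_step hperm8_9 rfl
    (permOK_step hperm8_8 rfl
    (permOK_step hperm8_7 rfl
    (permOK_step hperm8_6 rfl
    (permOK_step hperm8_5 rfl
    (permOK_step hperm8_4 rfl
    (permOK_step hperm8_3 rfl
    (permOK_step hperm8_2 rfl
    (permOK_step hperm8_1 rfl
    (permOK_step hperm8_0 rfl
    (permOK_start 18364758544493064720 TT 8 tN)))))))))))))

theorem hperm : permG cIV TT 9 cN = true := by
  refine permG_of_ones (fun x hx => ?_)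
  interval_cases x
  · exact hperm0
  · exact hperm1
  · exact hperm2
  · exact hperm3
  · exact hperm4
  · exact hperm5
  · exact hperm6
  · exact hperm7
  · exact hperm8

/-- words as powers -/
def specs : List (List ℕ × ℕ) :=
  [([0, 1], 3),
   ([0, 2], 2),
   ([0, 3], 2),
   ([0, 4], 2),
   ([0, 5], 2),
   ([0, 6], 2),
   ([0, 7], 2),
   ([0, 8], 3),
   ([1, 2], 3),
   ([1, 3], 2),
   ([1, 4], 2),
   ([1, 5], 2),
   ([1, 6], 2),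
   ([1, 7], 2),
   ([1, 8], 2),
   ([2, 3], 3),
   ([2, 4], 2),
   ([2, 5], 3),
   ([2, 6], 2),
   ([2, 7], 2),
   ([2, 8], 2),
   ([3, 4], 3),
   ([3, 5], 2),
   ([3, 6], 2),
   ([3, 7], 2),
   ([3, 8], 2),
   ([4, 5], 2),
   ([4, 6], 2),
   ([4, 7], 3),
   ([4, 8], 2),
   ([5, 6], 3),
   ([5, 7], 2),
   ([5, 8], 2),
   ([6, 7], 2),
   ([6, 8], 2),
   ([7, 8], 2),
   ([5, 2, 3, 1, 2, 5, 4, 3, 2, 1, 0, 1, 2, 3, 4, 5, 2, 1, 3, 2, 5, 6], 3),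
   ([1, 3, 7, 5, 2, 5, 3, 2, 1, 2, 3, 5, 2, 4, 3, 2, 5, 7, 4, 3, 2, 1, 2, 3, 4, 7, 5, 2, 3, 4, 0, 1, 2, 5, 3, 4, 2, 3, 1, 2, 5, 7, 4, 3, 2, 1, 0, 1, 2, 3, 4, 7, 5, 2, 1, 3, 2, 4, 3, 5, 2, 1, 0], 1),
   ([8, 1, 3, 5, 2, 5, 3, 2, 1, 2, 3, 5, 2, 0, 1, 2, 5, 3, 2, 1, 0, 8, 0, 1, 2, 3, 5, 2, 1, 0, 4, 3, 2, 5, 1, 2, 3, 0, 1, 2, 5, 4, 3, 2, 1, 0, 8, 0, 1, 2, 3, 4, 5, 2, 1, 0, 3, 2, 1, 5, 2, 3, 4], 1),
   ([0], 2),
   ([1], 2),
   ([2], 2),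
   ([3], 2),
   ([4], 2),
   ([5], 2),
   ([6], 2),
   ([7], 2),
   ([8], 2),
   ([], 1)]

theorem hspecs : baseL = specs.map (fun s => wpow s.1 s.2) := by
  decide +kernel

theorem hfix0 : ∀ i < tN, (Fn.applyW TT (([0, 1] : List ℕ), 3).1)^[(([0, 1] : List ℕ), 3).2] i = i :=
  Fn.fix_of_rangeOK (Fn.rangeOK_step hm0_4 rfl
    (Fn.rangeOK_step hm0_3 rfl
    (Fn.rangeOK_step hm0_2 rfl
    (Fn.rangeOK_step hm0_1 rfl
    (Fn.rangeOK_step hm0_0 rfl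
    (Fn.rangeOK_start TT [0, 1] 3 tN))))))

theorem hfix1 : ∀ i < tN, (Fn.applyW TT (([0, 2] : List ℕ), 2).1)^[(([0, 2] : List ℕ), 2).2] i = i :=
  Fn.fix_of_rangeOK (Fn.rangeOK_step hm1_4 rfl
    (Fn.rangeOK_step hm1_3 rfl
    (Fn.rangeOK_step hm1_2 rfl
    (Fn.rangeOK_step hm1_1 rfl
    (Fn.rangeOK_step hm1_0 rfl
    (Fn.rangeOK_start TT [0, 2] 2 tN))))))

theorem hfix2 : ∀ i < tN, (Fn.applyW TT (([0, 3] : List ℕ), 2).1)^[(([0, 3] : List ℕ), 2).2] i = i :=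
  Fn.fix_of_rangeOK (Fn.rangeOK_step hm2_4 rfl
    (Fn.rangeOK_step hm2_3 rfl
    (Fn.rangeOK_step hm2_2 rfl
    (Fn.rangeOK_step hm2_1 rfl
    (Fn.rangeOK_step hm2_0 rfl
    (Fn.rangeOK_start TT [0, 3] 2 tN))))))

theorem hfix3 : ∀ i < tN, (Fn.applyW TT (([0, 4] : List ℕ), 2).1)^[(([0, 4] : List ℕ), 2).2] i = i :=
  Fn.fix_of_rangeOK (Fn.rangeOK_step hm3_4 rfl
    (Fn.rangeOK_step hm3_3 rfl
    (Fn.rangeOK_step hm3_2 rfl
    (Fn.rangeOK_step hm3_1 rfl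
    (Fn.rangeOK_step hm3_0 rfl
    (Fn.rangeOK_start TT [0, 4] 2 tN))))))

theorem hfix4 : ∀ i < tN, (Fn.applyW TT (([0, 5] : List ℕ), 2).1)^[(([0, 5] : List ℕ), 2).2] i = i :=
  Fn.fix_of_rangeOK (Fn.rangeOK_step hm4_4 rfl
    (Fn.rangeOK_step hm4_3 rfl
    (Fn.rangeOK_step hm4_2 rfl
    (Fn.rangeOK_step hm4_1 rfl
    (Fn.rangeOK_step hm4_0 rfl
    (Fn.rangeOK_start TT [0, 5] 2 tN))))))

theorem hfix5 : ∀ i < tN, (Fn.applyW TT (([0, 6] : List ℕ), 2).1)^[(([0, 6] : List ℕ), 2).2] i = i :=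
  Fn.fix_of_rangeOK (Fn.rangeOK_step hm5_4 rfl
    (Fn.rangeOK_step hm5_3 rfl
    (Fn.rangeOK_step hm5_2 rfl
    (Fn.rangeOK_step hm5_1 rfl
    (Fn.rangeOK_step hm5_0 rfl
    (Fn.rangeOK_start TT [0, 6] 2 tN))))))

theorem hfix6 : ∀ i < tN, (Fn.applyW TT (([0, 7] : List ℕ), 2).1)^[(([0, 7] : List ℕ), 2).2] i = i :=
  Fn.fix_of_rangeOK (Fn.rangeOK_step hm6_4 rfl
    (Fn.rangeOK_step hm6_3 rfl
    (Fn.rangeOK_step hm6_2 rfl
    (Fn.rangeOK_step hm6_1 rfl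
    (Fn.rangeOK_step hm6_0 rfl
    (Fn.rangeOK_start TT [0, 7] 2 tN))))))

theorem hfix7 : ∀ i < tN, (Fn.applyW TT (([0, 8] : List ℕ), 3).1)^[(([0, 8] : List ℕ), 3).2] i = i :=
  Fn.fix_of_rangeOK (Fn.rangeOK_step hm7_4 rfl
    (Fn.rangeOK_step hm7_3 rfl
    (Fn.rangeOK_step hm7_2 rfl
    (Fn.rangeOK_step hm7_1 rfl
    (Fn.rangeOK_step hm7_0 rfl
    (Fn.rangeOK_start TT [0, 8] 3 tN))))))

theorem hfix8 : ∀ i < tN, (Fn.applyW TT (([1, 2] : List ℕ), 3).1)^[(([1, 2] : List ℕ), 3).2] i = i :=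
  Fn.fix_of_rangeOK (Fn.rangeOK_step hm8_4 rfl
    (Fn.rangeOK_step hm8_3 rfl
    (Fn.rangeOK_step hm8_2 rfl
    (Fn.rangeOK_step hm8_1 rfl
    (Fn.rangeOK_step hm8_0 rfl
    (Fn.rangeOK_start TT [1, 2] 3 tN))))))

theorem hfix9 : ∀ i < tN, (Fn.applyW TT (([1, 3] : List ℕ), 2).1)^[(([1, 3] : List ℕ), 2).2] i = i :=
  Fn.fix_of_rangeOK (Fn.rangeOK_step hm9_4 rfl
    (Fn.rangeOK_step hm9_3 rfl
    (Fn.rangeOK_step hm9_2 rfl
    (Fn.rangeOK_step hm9_1 rfl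
    (Fn.rangeOK_step hm9_0 rfl
    (Fn.rangeOK_start TT [1, 3] 2 tN))))))

theorem hfix10 : ∀ i < tN, (Fn.applyW TT (([1, 4] : List ℕ), 2).1)^[(([1, 4] : List ℕ), 2).2] i = i :=
  Fn.fix_of_rangeOK (Fn.rangeOK_step hm10_4 rfl
    (Fn.rangeOK_step hm10_3 rfl
    (Fn.rangeOK_step hm10_2 rfl
    (Fn.rangeOK_step hm10_1 rfl
    (Fn.rangeOK_step hm10_0 rfl
    (Fn.rangeOK_start TT [1, 4] 2 tN))))))

theorem hfix11 : ∀ i < tN, (Fn.applyW TT (([1, 5] : List ℕ), 2).1)^[(([1, 5] : List ℕ), 2).2] i = i :=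
  Fn.fix_of_rangeOK (Fn.rangeOK_step hm11_4 rfl
    (Fn.rangeOK_step hm11_3 rfl
    (Fn.rangeOK_step hm11_2 rfl
    (Fn.rangeOK_step hm11_1 rfl
    (Fn.rangeOK_step hm11_0 rfl
    (Fn.rangeOK_start TT [1, 5] 2 tN))))))

theorem hfix12 : ∀ i < tN, (Fn.applyW TT (([1, 6] : List ℕ), 2).1)^[(([1, 6] : List ℕ), 2).2] i = i :=
  Fn.fix_of_rangeOK (Fn.rangeOK_step hm12_4 rfl
    (Fn.rangeOK_step hm12_3 rfl
    (Fn.rangeOK_step hm12_2 rfl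
    (Fn.rangeOK_step hm12_1 rfl
    (Fn.rangeOK_step hm12_0 rfl
    (Fn.rangeOK_start TT [1, 6] 2 tN))))))

theorem hfix13 : ∀ i < tN, (Fn.applyW TT (([1, 7] : List ℕ), 2).1)^[(([1, 7] : List ℕ), 2).2] i = i :=
  Fn.fix_of_rangeOK (Fn.rangeOK_step hm13_4 rfl
    (Fn.rangeOK_step hm13_3 rfl
    (Fn.rangeOK_step hm13_2 rfl
    (Fn.rangeOK_step hm13_1 rfl
    (Fn.rangeOK_step hm13_0 rfl
    (Fn.rangeOK_start TT [1, 7] 2 tN))))))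

theorem hfix14 : ∀ i < tN, (Fn.applyW TT (([1, 8] : List ℕ), 2).1)^[(([1, 8] : List ℕ), 2).2] i = i :=
  Fn.fix_of_rangeOK (Fn.rangeOK_step hm14_4 rfl
    (Fn.rangeOK_step hm14_3 rfl
    (Fn.rangeOK_step hm14_2 rfl
    (Fn.rangeOK_step hm14_1 rfl
    (Fn.rangeOK_step hm14_0 rfl
    (Fn.rangeOK_start TT [1, 8] 2 tN))))))

theorem hfix15 : ∀ i < tN, (Fn.applyW TT (([2, 3] : List ℕ), 3).1)^[(([2, 3] : List ℕ), 3).2] i = i :=
  Fn.fix_of_rangeOK (Fn.rangeOK_step hm15_4 rfl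
    (Fn.rangeOK_step hm15_3 rfl
    (Fn.rangeOK_step hm15_2 rfl
    (Fn.rangeOK_step hm15_1 rfl
    (Fn.rangeOK_step hm15_0 rfl
    (Fn.rangeOK_start TT [2, 3] 3 tN))))))

theorem hfix16 : ∀ i < tN, (Fn.applyW TT (([2, 4] : List ℕ), 2).1)^[(([2, 4] : List ℕ), 2).2] i = i :=
  Fn.fix_of_rangeOK (Fn.rangeOK_step hm16_4 rfl
    (Fn.rangeOK_step hm16_3 rfl
    (Fn.rangeOK_step hm16_2 rfl
    (Fn.rangeOK_step hm16_1 rfl
    (Fn.rangeOK_step hm16_0 rfl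
    (Fn.rangeOK_start TT [2, 4] 2 tN))))))

theorem hfix17 : ∀ i < tN, (Fn.applyW TT (([2, 5] : List ℕ), 3).1)^[(([2, 5] : List ℕ), 3).2] i = i :=
  Fn.fix_of_rangeOK (Fn.rangeOK_step hm17_4 rfl
    (Fn.rangeOK_step hm17_3 rfl
    (Fn.rangeOK_step hm17_2 rfl
    (Fn.rangeOK_step hm17_1 rfl
    (Fn.rangeOK_step hm17_0 rfl
    (Fn.rangeOK_start TT [2, 5] 3 tN))))))

theorem hfix18 : ∀ i < tN, (Fn.applyW TT (([2, 6] : List ℕ), 2).1)^[(([2, 6] : List ℕ), 2).2] i = i :=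
  Fn.fix_of_rangeOK (Fn.rangeOK_step hm18_4 rfl
    (Fn.rangeOK_step hm18_3 rfl
    (Fn.rangeOK_step hm18_2 rfl
    (Fn.rangeOK_step hm18_1 rfl
    (Fn.rangeOK_step hm18_0 rfl
    (Fn.rangeOK_start TT [2, 6] 2 tN))))))

theorem hfix19 : ∀ i < tN, (Fn.applyW TT (([2, 7] : List ℕ), 2).1)^[(([2, 7] : List ℕ), 2).2] i = i :=
  Fn.fix_of_rangeOK (Fn.rangeOK_step hm19_4 rfl
    (Fn.rangeOK_step hm19_3 rfl
    (Fn.rangeOK_step hm19_2 rfl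
    (Fn.rangeOK_step hm19_1 rfl
    (Fn.rangeOK_step hm19_0 rfl
    (Fn.rangeOK_start TT [2, 7] 2 tN))))))

theorem hfix20 : ∀ i < tN, (Fn.applyW TT (([2, 8] : List ℕ), 2).1)^[(([2, 8] : List ℕ), 2).2] i = i :=
  Fn.fix_of_rangeOK (Fn.rangeOK_step hm20_4 rfl
    (Fn.rangeOK_step hm20_3 rfl
    (Fn.rangeOK_step hm20_2 rfl
    (Fn.rangeOK_step hm20_1 rfl
    (Fn.rangeOK_step hm20_0 rfl
    (Fn.rangeOK_start TT [2, 8] 2 tN))))))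

theorem hfix21 : ∀ i < tN, (Fn.applyW TT (([3, 4] : List ℕ), 3).1)^[(([3, 4] : List ℕ), 3).2] i = i :=
  Fn.fix_of_rangeOK (Fn.rangeOK_step hm21_4 rfl
    (Fn.rangeOK_step hm21_3 rfl
    (Fn.rangeOK_step hm21_2 rfl
    (Fn.rangeOK_step hm21_1 rfl
    (Fn.rangeOK_step hm21_0 rfl
    (Fn.rangeOK_start TT [3, 4] 3 tN))))))

theorem hfix22 : ∀ i < tN, (Fn.applyW TT (([3, 5] : List ℕ), 2).1)^[(([3, 5] : List ℕ), 2).2] i = i :=
  Fn.fix_of_rangeOK (Fn.rangeOK_step hm22_4 rfl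
    (Fn.rangeOK_step hm22_3 rfl
    (Fn.rangeOK_step hm22_2 rfl
    (Fn.rangeOK_step hm22_1 rfl
    (Fn.rangeOK_step hm22_0 rfl
    (Fn.rangeOK_start TT [3, 5] 2 tN))))))

theorem hfix23 : ∀ i < tN, (Fn.applyW TT (([3, 6] : List ℕ), 2).1)^[(([3, 6] : List ℕ), 2).2] i = i :=
  Fn.fix_of_rangeOK (Fn.rangeOK_step hm23_4 rfl
    (Fn.rangeOK_step hm23_3 rfl
    (Fn.rangeOK_step hm23_2 rfl
    (Fn.rangeOK_step hm23_1 rfl
    (Fn.rangeOK_step hm23_0 rfl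
    (Fn.rangeOK_start TT [3, 6] 2 tN))))))

theorem hfix24 : ∀ i < tN, (Fn.applyW TT (([3, 7] : List ℕ), 2).1)^[(([3, 7] : List ℕ), 2).2] i = i :=
  Fn.fix_of_rangeOK (Fn.rangeOK_step hm24_4 rfl
    (Fn.rangeOK_step hm24_3 rfl
    (Fn.rangeOK_step hm24_2 rfl
    (Fn.rangeOK_step hm24_1 rfl
    (Fn.rangeOK_step hm24_0 rfl
    (Fn.rangeOK_start TT [3, 7] 2 tN))))))

theorem hfix25 : ∀ i < tN, (Fn.applyW TT (([3, 8] : List ℕ), 2).1)^[(([3, 8] : List ℕ), 2).2] i = i :=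
  Fn.fix_of_rangeOK (Fn.rangeOK_step hm25_4 rfl
    (Fn.rangeOK_step hm25_3 rfl
    (Fn.rangeOK_step hm25_2 rfl
    (Fn.rangeOK_step hm25_1 rfl
    (Fn.rangeOK_step hm25_0 rfl
    (Fn.rangeOK_start TT [3, 8] 2 tN))))))

theorem hfix26 : ∀ i < tN, (Fn.applyW TT (([4, 5] : List ℕ), 2).1)^[(([4, 5] : List ℕ), 2).2] i = i :=
  Fn.fix_of_rangeOK (Fn.rangeOK_step hm26_4 rfl
    (Fn.rangeOK_step hm26_3 rfl
    (Fn.rangeOK_step hm26_2 rfl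
    (Fn.rangeOK_step hm26_1 rfl
    (Fn.rangeOK_step hm26_0 rfl
    (Fn.rangeOK_start TT [4, 5] 2 tN))))))

theorem hfix27 : ∀ i < tN, (Fn.applyW TT (([4, 6] : List ℕ), 2).1)^[(([4, 6] : List ℕ), 2).2] i = i :=
  Fn.fix_of_rangeOK (Fn.rangeOK_step hm27_4 rfl
    (Fn.rangeOK_step hm27_3 rfl
    (Fn.rangeOK_step hm27_2 rfl
    (Fn.rangeOK_step hm27_1 rfl
    (Fn.rangeOK_step hm27_0 rfl
    (Fn.rangeOK_start TT [4, 6] 2 tN))))))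

theorem hfix28 : ∀ i < tN, (Fn.applyW TT (([4, 7] : List ℕ), 3).1)^[(([4, 7] : List ℕ), 3).2] i = i :=
  Fn.fix_of_rangeOK (Fn.rangeOK_step hm28_4 rfl
    (Fn.rangeOK_step hm28_3 rfl
    (Fn.rangeOK_step hm28_2 rfl
    (Fn.rangeOK_step hm28_1 rfl
    (Fn.rangeOK_step hm28_0 rfl
    (Fn.rangeOK_start TT [4, 7] 3 tN))))))

theorem hfix29 : ∀ i < tN, (Fn.applyW TT (([4, 8] : List ℕ), 2).1)^[(([4, 8] : List ℕ), 2).2] i = i :=
  Fn.fix_of_rangeOK (Fn.rangeOK_step hm29_4 rfl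
    (Fn.rangeOK_step hm29_3 rfl
    (Fn.rangeOK_step hm29_2 rfl
    (Fn.rangeOK_step hm29_1 rfl
    (Fn.rangeOK_step hm29_0 rfl
    (Fn.rangeOK_start TT [4, 8] 2 tN))))))

theorem hfix30 : ∀ i < tN, (Fn.applyW TT (([5, 6] : List ℕ), 3).1)^[(([5, 6] : List ℕ), 3).2] i = i :=
  Fn.fix_of_rangeOK (Fn.rangeOK_step hm30_4 rfl
    (Fn.rangeOK_step hm30_3 rfl
    (Fn.rangeOK_step hm30_2 rfl
    (Fn.rangeOK_step hm30_1 rfl
    (Fn.rangeOK_step hm30_0 rfl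
    (Fn.rangeOK_start TT [5, 6] 3 tN))))))

theorem hfix31 : ∀ i < tN, (Fn.applyW TT (([5, 7] : List ℕ), 2).1)^[(([5, 7] : List ℕ), 2).2] i = i :=
  Fn.fix_of_rangeOK (Fn.rangeOK_step hm31_4 rfl
    (Fn.rangeOK_step hm31_3 rfl
    (Fn.rangeOK_step hm31_2 rfl
    (Fn.rangeOK_step hm31_1 rfl
    (Fn.rangeOK_step hm31_0 rfl
    (Fn.rangeOK_start TT [5, 7] 2 tN))))))

theorem hfix32 : ∀ i < tN, (Fn.applyW TT (([5, 8] : List ℕ), 2).1)^[(([5, 8] : List ℕ), 2).2] i = i :=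
  Fn.fix_of_rangeOK (Fn.rangeOK_step hm32_4 rfl
    (Fn.rangeOK_step hm32_3 rfl
    (Fn.rangeOK_step hm32_2 rfl
    (Fn.rangeOK_step hm32_1 rfl
    (Fn.rangeOK_step hm32_0 rfl
    (Fn.rangeOK_start TT [5, 8] 2 tN))))))

theorem hfix33 : ∀ i < tN, (Fn.applyW TT (([6, 7] : List ℕ), 2).1)^[(([6, 7] : List ℕ), 2).2] i = i :=
  Fn.fix_of_rangeOK (Fn.rangeOK_step hm33_4 rfl
    (Fn.rangeOK_step hm33_3 rfl
    (Fn.rangeOK_step hm33_2 rfl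
    (Fn.rangeOK_step hm33_1 rfl
    (Fn.rangeOK_step hm33_0 rfl
    (Fn.rangeOK_start TT [6, 7] 2 tN))))))

theorem hfix34 : ∀ i < tN, (Fn.applyW TT (([6, 8] : List ℕ), 2).1)^[(([6, 8] : List ℕ), 2).2] i = i :=
  Fn.fix_of_rangeOK (Fn.rangeOK_step hm34_4 rfl
    (Fn.rangeOK_step hm34_3 rfl
    (Fn.rangeOK_step hm34_2 rfl
    (Fn.rangeOK_step hm34_1 rfl
    (Fn.rangeOK_step hm34_0 rfl
    (Fn.rangeOK_start TT [6, 8] 2 tN))))))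

theorem hfix35 : ∀ i < tN, (Fn.applyW TT (([7, 8] : List ℕ), 2).1)^[(([7, 8] : List ℕ), 2).2] i = i :=
  Fn.fix_of_rangeOK (Fn.rangeOK_step hm35_4 rfl
    (Fn.rangeOK_step hm35_3 rfl
    (Fn.rangeOK_step hm35_2 rfl
    (Fn.rangeOK_step hm35_1 rfl
    (Fn.rangeOK_step hm35_0 rfl
    (Fn.rangeOK_start TT [7, 8] 2 tN))))))

theorem hfix36 : ∀ i < tN, (Fn.applyW TT (([5, 2, 3, 1, 2, 5, 4, 3, 2, 1, 0, 1, 2, 3, 4, 5, 2, 1, 3, 2, 5, 6] : List ℕ), 3).1)^[(([5, 2, 3, 1, 2, 5, 4, 3, 2, 1, 0, 1, 2, 3, 4, 5, 2, 1, 3, 2, 5, 6] : List ℕ), 3).2] i = i :=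
  Fn.fix_of_rangeOK (Fn.rangeOK_step hm36_50 rfl
    (Fn.rangeOK_step hm36_49 rfl
    (Fn.rangeOK_step hm36_48 rfl
    (Fn.rangeOK_step hm36_47 rfl
    (Fn.rangeOK_step hm36_46 rfl
    (Fn.rangeOK_step hm36_45 rfl
    (Fn.rangeOK_step hm36_44 rfl
    (Fn.rangeOK_step hm36_43 rfl
    (Fn.rangeOK_step hm36_42 rfl
    (Fn.rangeOK_step hm36_41 rfl
    (Fn.rangeOK_step hm36_40 rfl
    (Fn.rangeOK_step hm36_39 rfl
    (Fn.rangeOK_step hm36_38 rfl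
    (Fn.rangeOK_step hm36_37 rfl
    (Fn.rangeOK_step hm36_36 rfl
    (Fn.rangeOK_step hm36_35 rfl
    (Fn.rangeOK_step hm36_34 rfl
    (Fn.rangeOK_step hm36_33 rfl
    (Fn.rangeOK_step hm36_32 rfl
    (Fn.rangeOK_step hm36_31 rfl
    (Fn.rangeOK_step hm36_30 rfl
    (Fn.rangeOK_step hm36_29 rfl
    (Fn.rangeOK_step hm36_28 rfl
    (Fn.rangeOK_step hm36_27 rfl
    (Fn.rangeOK_step hm36_26 rfl
    (Fn.rangeOK_step hm36_25 rfl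
    (Fn.rangeOK_step hm36_24 rfl
    (Fn.rangeOK_step hm36_23 rfl
    (Fn.rangeOK_step hm36_22 rfl
    (Fn.rangeOK_step hm36_21 rfl
    (Fn.rangeOK_step hm36_20 rfl
    (Fn.rangeOK_step hm36_19 rfl
    (Fn.rangeOK_step hm36_18 rfl
    (Fn.rangeOK_step hm36_17 rfl
    (Fn.rangeOK_step hm36_16 rfl
    (Fn.rangeOK_step hm36_15 rfl
    (Fn.rangeOK_step hm36_14 rfl
    (Fn.rangeOK_step hm36_13 rfl
    (Fn.rangeOK_step hm36_12 rfl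
    (Fn.rangeOK_step hm36_11 rfl
    (Fn.rangeOK_step hm36_10 rfl
    (Fn.rangeOK_step hm36_9 rfl
    (Fn.rangeOK_step hm36_8 rfl
    (Fn.rangeOK_step hm36_7 rfl
    (Fn.rangeOK_step hm36_6 rfl
    (Fn.rangeOK_step hm36_5 rfl
    (Fn.rangeOK_step hm36_4 rfl
    (Fn.rangeOK_step hm36_3 rfl
    (Fn.rangeOK_step hm36_2 rfl
    (Fn.rangeOK_step hm36_1 rfl
    (Fn.rangeOK_step hm36_0 rfl
    (Fn.rangeOK_start TT [5, 2, 3, 1, 2, 5, 4, 3, 2, 1, 0, 1, 2, 3, 4, 5, 2, 1, 3, 2, 5, 6] 3 tN))))))))))))))))))))))))))))))))))))))))))))))))))))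

theorem hfix37 : ∀ i < tN, (Fn.applyW TT (([1, 3, 7, 5, 2, 5, 3, 2, 1, 2, 3, 5, 2, 4, 3, 2, 5, 7, 4, 3, 2, 1, 2, 3, 4, 7, 5, 2, 3, 4, 0, 1, 2, 5, 3, 4, 2, 3, 1, 2, 5, 7, 4, 3, 2, 1, 0, 1, 2, 3, 4, 7, 5, 2, 1, 3, 2, 4, 3, 5, 2, 1, 0] : List ℕ), 1).1)^[(([1, 3, 7, 5, 2, 5, 3, 2, 1, 2, 3, 5, 2, 4, 3, 2, 5, 7, 4, 3, 2, 1, 2, 3, 4, 7, 5, 2, 3, 4, 0, 1, 2, 5, 3, 4, 2, 3, 1, 2, 5, 7, 4, 3, 2, 1, 0, 1, 2, 3, 4, 7, 5, 2, 1, 3, 2, 4, 3, 5, 2, 1, 0] : List ℕ), 1).2] i = i :=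
  Fn.fix_of_rangeOK (Fn.rangeOK_step hm37_145 rfl
    (Fn.rangeOK_step hm37_144 rfl
    (Fn.rangeOK_step hm37_143 rfl
    (Fn.rangeOK_step hm37_142 rfl
    (Fn.rangeOK_step hm37_141 rfl
    (Fn.rangeOK_step hm37_140 rfl
    (Fn.rangeOK_step hm37_139 rfl
    (Fn.rangeOK_step hm37_138 rfl
    (Fn.rangeOK_step hm37_137 rfl
    (Fn.rangeOK_step hm37_136 rfl
    (Fn.rangeOK_step hm37_135 rfl
    (Fn.rangeOK_step hm37_134 rfl
    (Fn.rangeOK_step hm37_133 rfl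
    (Fn.rangeOK_step hm37_132 rfl
    (Fn.rangeOK_step hm37_131 rfl
    (Fn.rangeOK_step hm37_130 rfl
    (Fn.rangeOK_step hm37_129 rfl
    (Fn.rangeOK_step hm37_128 rfl
    (Fn.rangeOK_step hm37_127 rfl
    (Fn.rangeOK_step hm37_126 rfl
    (Fn.rangeOK_step hm37_125 rfl
    (Fn.rangeOK_step hm37_124 rfl
    (Fn.rangeOK_step hm37_123 rfl
    (Fn.rangeOK_step hm37_122 rfl
    (Fn.rangeOK_step hm37_121 rfl
    (Fn.rangeOK_step hm37_120 rfl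
    (Fn.rangeOK_step hm37_119 rfl
    (Fn.rangeOK_step hm37_118 rfl
    (Fn.rangeOK_step hm37_117 rfl
    (Fn.rangeOK_step hm37_116 rfl
    (Fn.rangeOK_step hm37_115 rfl
    (Fn.rangeOK_step hm37_114 rfl
    (Fn.rangeOK_step hm37_113 rfl
    (Fn.rangeOK_step hm37_112 rfl
    (Fn.rangeOK_step hm37_111 rfl
    (Fn.rangeOK_step hm37_110 rfl
    (Fn.rangeOK_step hm37_109 rfl
    (Fn.rangeOK_step hm37_108 rfl
    (Fn.rangeOK_step hm37_107 rfl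
    (Fn.rangeOK_step hm37_106 rfl
    (Fn.rangeOK_step hm37_105 rfl
    (Fn.rangeOK_step hm37_104 rfl
    (Fn.rangeOK_step hm37_103 rfl
    (Fn.rangeOK_step hm37_102 rfl
    (Fn.rangeOK_step hm37_101 rfl
    (Fn.rangeOK_step hm37_100 rfl
    (Fn.rangeOK_step hm37_99 rfl
    (Fn.rangeOK_step hm37_98 rfl
    (Fn.rangeOK_step hm37_97 rfl
    (Fn.rangeOK_step hm37_96 rfl
    (Fn.rangeOK_step hm37_95 rfl
    (Fn.rangeOK_step hm37_94 rfl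
    (Fn.rangeOK_step hm37_93 rfl
    (Fn.rangeOK_step hm37_92 rfl
    (Fn.rangeOK_step hm37_91 rfl
    (Fn.rangeOK_step hm37_90 rfl
    (Fn.rangeOK_step hm37_89 rfl
    (Fn.rangeOK_step hm37_88 rfl
    (Fn.rangeOK_step hm37_87 rfl
    (Fn.rangeOK_step hm37_86 rfl
    (Fn.rangeOK_step hm37_85 rfl
    (Fn.rangeOK_step hm37_84 rfl
    (Fn.rangeOK_step hm37_83 rfl
    (Fn.rangeOK_step hm37_82 rfl
    (Fn.rangeOK_step hm37_81 rfl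
    (Fn.rangeOK_step hm37_80 rfl
    (Fn.rangeOK_step hm37_79 rfl
    (Fn.rangeOK_step hm37_78 rfl
    (Fn.rangeOK_step hm37_77 rfl
    (Fn.rangeOK_step hm37_76 rfl
    (Fn.rangeOK_step hm37_75 rfl
    (Fn.rangeOK_step hm37_74 rfl
    (Fn.rangeOK_step hm37_73 rfl
    (Fn.rangeOK_step hm37_72 rfl
    (Fn.rangeOK_step hm37_71 rfl
    (Fn.rangeOK_step hm37_70 rfl
    (Fn.rangeOK_step hm37_69 rfl
    (Fn.rangeOK_step hm37_68 rfl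
    (Fn.rangeOK_step hm37_67 rfl
    (Fn.rangeOK_step hm37_66 rfl
    (Fn.rangeOK_step hm37_65 rfl
    (Fn.rangeOK_step hm37_64 rfl
    (Fn.rangeOK_step hm37_63 rfl
    (Fn.rangeOK_step hm37_62 rfl
    (Fn.rangeOK_step hm37_61 rfl
    (Fn.rangeOK_step hm37_60 rfl
    (Fn.rangeOK_step hm37_59 rfl
    (Fn.rangeOK_step hm37_58 rfl
    (Fn.rangeOK_step hm37_57 rfl
    (Fn.rangeOK_step hm37_56 rfl
    (Fn.rangeOK_step hm37_55 rfl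
    (Fn.rangeOK_step hm37_54 rfl
    (Fn.rangeOK_step hm37_53 rfl
    (Fn.rangeOK_step hm37_52 rfl
    (Fn.rangeOK_step hm37_51 rfl
    (Fn.rangeOK_step hm37_50 rfl
    (Fn.rangeOK_step hm37_49 rfl
    (Fn.rangeOK_step hm37_48 rfl
    (Fn.rangeOK_step hm37_47 rfl
    (Fn.rangeOK_step hm37_46 rfl
    (Fn.rangeOK_step hm37_45 rfl
    (Fn.rangeOK_step hm37_44 rfl
    (Fn.rangeOK_step hm37_43 rfl
    (Fn.rangeOK_step hm37_42 rfl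
    (Fn.rangeOK_step hm37_41 rfl
    (Fn.rangeOK_step hm37_40 rfl
    (Fn.rangeOK_step hm37_39 rfl
    (Fn.rangeOK_step hm37_38 rfl
    (Fn.rangeOK_step hm37_37 rfl
    (Fn.rangeOK_step hm37_36 rfl
    (Fn.rangeOK_step hm37_35 rfl
    (Fn.rangeOK_step hm37_34 rfl
    (Fn.rangeOK_step hm37_33 rfl
    (Fn.rangeOK_step hm37_32 rfl
    (Fn.rangeOK_step hm37_31 rfl
    (Fn.rangeOK_step hm37_30 rfl
    (Fn.rangeOK_step hm37_29 rfl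
    (Fn.rangeOK_step hm37_28 rfl
    (Fn.rangeOK_step hm37_27 rfl
    (Fn.rangeOK_step hm37_26 rfl
    (Fn.rangeOK_step hm37_25 rfl
    (Fn.rangeOK_step hm37_24 rfl
    (Fn.rangeOK_step hm37_23 rfl
    (Fn.rangeOK_step hm37_22 rfl
    (Fn.rangeOK_step hm37_21 rfl
    (Fn.rangeOK_step hm37_20 rfl
    (Fn.rangeOK_step hm37_19 rfl
    (Fn.rangeOK_step hm37_18 rfl
    (Fn.rangeOK_step hm37_17 rfl
    (Fn.rangeOK_step hm37_16 rfl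
    (Fn.rangeOK_step hm37_15 rfl
    (Fn.rangeOK_step hm37_14 rfl
    (Fn.rangeOK_step hm37_13 rfl
    (Fn.rangeOK_step hm37_12 rfl
    (Fn.rangeOK_step hm37_11 rfl
    (Fn.rangeOK_step hm37_10 rfl
    (Fn.rangeOK_step hm37_9 rfl
    (Fn.rangeOK_step hm37_8 rfl
    (Fn.rangeOK_step hm37_7 rfl
    (Fn.rangeOK_step hm37_6 rfl
    (Fn.rangeOK_step hm37_5 rfl
    (Fn.rangeOK_step hm37_4 rfl
    (Fn.rangeOK_step hm37_3 rfl
    (Fn.rangeOK_step hm37_2 rfl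
    (Fn.rangeOK_step hm37_1 rfl
    (Fn.rangeOK_step hm37_0 rfl
    (Fn.rangeOK_start TT [1, 3, 7, 5, 2, 5, 3, 2, 1, 2, 3, 5, 2, 4, 3, 2, 5, 7, 4, 3, 2, 1, 2, 3, 4, 7, 5, 2, 3, 4, 0, 1, 2, 5, 3, 4, 2, 3, 1, 2, 5, 7, 4, 3, 2, 1, 0, 1, 2, 3, 4, 7, 5, 2, 1, 3, 2, 4, 3, 5, 2, 1, 0] 1 tN)))))))))))))))))))))))))))))))))))))))))))))))))))))))))))))))))))))))))))))))))))))))))))))))))))))))))))))))))))))))))))))))))))))))))))))))))))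

theorem hfix38 : ∀ i < tN, (Fn.applyW TT (([8, 1, 3, 5, 2, 5, 3, 2, 1, 2, 3, 5, 2, 0, 1, 2, 5, 3, 2, 1, 0, 8, 0, 1, 2, 3, 5, 2, 1, 0, 4, 3, 2, 5, 1, 2, 3, 0, 1, 2, 5, 4, 3, 2, 1, 0, 8, 0, 1, 2, 3, 4, 5, 2, 1, 0, 3, 2, 1, 5, 2, 3, 4] : List ℕ), 1).1)^[(([8, 1, 3, 5, 2, 5, 3, 2, 1, 2, 3, 5, 2, 0, 1, 2, 5, 3, 2, 1, 0, 8, 0, 1, 2, 3, 5, 2, 1, 0, 4, 3, 2, 5, 1, 2, 3, 0, 1, 2, 5, 4, 3, 2, 1, 0, 8, 0, 1, 2, 3, 4, 5, 2, 1, 0, 3, 2, 1, 5, 2, 3, 4] : List ℕ), 1).2] i = i :=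
  Fn.fix_of_rangeOK (Fn.rangeOK_step hm38_145 rfl
    (Fn.rangeOK_step hm38_144 rfl
    (Fn.rangeOK_step hm38_143 rfl
    (Fn.rangeOK_step hm38_142 rfl
    (Fn.rangeOK_step hm38_141 rfl
    (Fn.rangeOK_step hm38_140 rfl
    (Fn.rangeOK_step hm38_139 rfl
    (Fn.rangeOK_step hm38_138 rfl
    (Fn.rangeOK_step hm38_137 rfl
    (Fn.rangeOK_step hm38_136 rfl
    (Fn.rangeOK_step hm38_135 rfl
    (Fn.rangeOK_step hm38_134 rfl
    (Fn.rangeOK_step hm38_133 rfl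
    (Fn.rangeOK_step hm38_132 rfl
    (Fn.rangeOK_step hm38_131 rfl
    (Fn.rangeOK_step hm38_130 rfl
    (Fn.rangeOK_step hm38_129 rfl
    (Fn.rangeOK_step hm38_128 rfl
    (Fn.rangeOK_step hm38_127 rfl
    (Fn.rangeOK_step hm38_126 rfl
    (Fn.rangeOK_step hm38_125 rfl
    (Fn.rangeOK_step hm38_124 rfl
    (Fn.rangeOK_step hm38_123 rfl
    (Fn.rangeOK_step hm38_122 rfl
    (Fn.rangeOK_step hm38_121 rfl
    (Fn.rangeOK_step hm38_120 rfl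
    (Fn.rangeOK_step hm38_119 rfl
    (Fn.rangeOK_step hm38_118 rfl
    (Fn.rangeOK_step hm38_117 rfl
    (Fn.rangeOK_step hm38_116 rfl
    (Fn.rangeOK_step hm38_115 rfl
    (Fn.rangeOK_step hm38_114 rfl
    (Fn.rangeOK_step hm38_113 rfl
    (Fn.rangeOK_step hm38_112 rfl
    (Fn.rangeOK_step hm38_111 rfl
    (Fn.rangeOK_step hm38_110 rfl
    (Fn.rangeOK_step hm38_109 rfl
    (Fn.rangeOK_step hm38_108 rfl
    (Fn.rangeOK_step hm38_107 rfl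
    (Fn.rangeOK_step hm38_106 rfl
    (Fn.rangeOK_step hm38_105 rfl
    (Fn.rangeOK_step hm38_104 rfl
    (Fn.rangeOK_step hm38_103 rfl
    (Fn.rangeOK_step hm38_102 rfl
    (Fn.rangeOK_step hm38_101 rfl
    (Fn.rangeOK_step hm38_100 rfl
    (Fn.rangeOK_step hm38_99 rfl
    (Fn.rangeOK_step hm38_98 rfl
    (Fn.rangeOK_step hm38_97 rfl
    (Fn.rangeOK_step hm38_96 rfl
    (Fn.rangeOK_step hm38_95 rfl
    (Fn.rangeOK_step hm38_94 rfl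
    (Fn.rangeOK_step hm38_93 rfl
    (Fn.rangeOK_step hm38_92 rfl
    (Fn.rangeOK_step hm38_91 rfl
    (Fn.rangeOK_step hm38_90 rfl
    (Fn.rangeOK_step hm38_89 rfl
    (Fn.rangeOK_step hm38_88 rfl
    (Fn.rangeOK_step hm38_87 rfl
    (Fn.rangeOK_step hm38_86 rfl
    (Fn.rangeOK_step hm38_85 rfl
    (Fn.rangeOK_step hm38_84 rfl
    (Fn.rangeOK_step hm38_83 rfl
    (Fn.rangeOK_step hm38_82 rfl
    (Fn.rangeOK_step hm38_81 rfl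
    (Fn.rangeOK_step hm38_80 rfl
    (Fn.rangeOK_step hm38_79 rfl
    (Fn.rangeOK_step hm38_78 rfl
    (Fn.rangeOK_step hm38_77 rfl
    (Fn.rangeOK_step hm38_76 rfl
    (Fn.rangeOK_step hm38_75 rfl
    (Fn.rangeOK_step hm38_74 rfl
    (Fn.rangeOK_step hm38_73 rfl
    (Fn.rangeOK_step hm38_72 rfl
    (Fn.rangeOK_step hm38_71 rfl
    (Fn.rangeOK_step hm38_70 rfl
    (Fn.rangeOK_step hm38_69 rfl
    (Fn.rangeOK_step hm38_68 rfl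
    (Fn.rangeOK_step hm38_67 rfl
    (Fn.rangeOK_step hm38_66 rfl
    (Fn.rangeOK_step hm38_65 rfl
    (Fn.rangeOK_step hm38_64 rfl
    (Fn.rangeOK_step hm38_63 rfl
    (Fn.rangeOK_step hm38_62 rfl
    (Fn.rangeOK_step hm38_61 rfl
    (Fn.rangeOK_step hm38_60 rfl
    (Fn.rangeOK_step hm38_59 rfl
    (Fn.rangeOK_step hm38_58 rfl
    (Fn.rangeOK_step hm38_57 rfl
    (Fn.rangeOK_step hm38_56 rfl
    (Fn.rangeOK_step hm38_55 rfl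
    (Fn.rangeOK_step hm38_54 rfl
    (Fn.rangeOK_step hm38_53 rfl
    (Fn.rangeOK_step hm38_52 rfl
    (Fn.rangeOK_step hm38_51 rfl
    (Fn.rangeOK_step hm38_50 rfl
    (Fn.rangeOK_step hm38_49 rfl
    (Fn.rangeOK_step hm38_48 rfl
    (Fn.rangeOK_step hm38_47 rfl
    (Fn.rangeOK_step hm38_46 rfl
    (Fn.rangeOK_step hm38_45 rfl
    (Fn.rangeOK_step hm38_44 rfl
    (Fn.rangeOK_step hm38_43 rfl
    (Fn.rangeOK_step hm38_42 rfl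
    (Fn.rangeOK_step hm38_41 rfl
    (Fn.rangeOK_step hm38_40 rfl
    (Fn.rangeOK_step hm38_39 rfl
    (Fn.rangeOK_step hm38_38 rfl
    (Fn.rangeOK_step hm38_37 rfl
    (Fn.rangeOK_step hm38_36 rfl
    (Fn.rangeOK_step hm38_35 rfl
    (Fn.rangeOK_step hm38_34 rfl
    (Fn.rangeOK_step hm38_33 rfl
    (Fn.rangeOK_step hm38_32 rfl
    (Fn.rangeOK_step hm38_31 rfl
    (Fn.rangeOK_step hm38_30 rfl
    (Fn.rangeOK_step hm38_29 rfl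
    (Fn.rangeOK_step hm38_28 rfl
    (Fn.rangeOK_step hm38_27 rfl
    (Fn.rangeOK_step hm38_26 rfl
    (Fn.rangeOK_step hm38_25 rfl
    (Fn.rangeOK_step hm38_24 rfl
    (Fn.rangeOK_step hm38_23 rfl
    (Fn.rangeOK_step hm38_22 rfl
    (Fn.rangeOK_step hm38_21 rfl
    (Fn.rangeOK_step hm38_20 rfl
    (Fn.rangeOK_step hm38_19 rfl
    (Fn.rangeOK_step hm38_18 rfl
    (Fn.rangeOK_step hm38_17 rfl
    (Fn.rangeOK_step hm38_16 rfl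
    (Fn.rangeOK_step hm38_15 rfl
    (Fn.rangeOK_step hm38_14 rfl
    (Fn.rangeOK_step hm38_13 rfl
    (Fn.rangeOK_step hm38_12 rfl
    (Fn.rangeOK_step hm38_11 rfl
    (Fn.rangeOK_step hm38_10 rfl
    (Fn.rangeOK_step hm38_9 rfl
    (Fn.rangeOK_step hm38_8 rfl
    (Fn.rangeOK_step hm38_7 rfl
    (Fn.rangeOK_step hm38_6 rfl
    (Fn.rangeOK_step hm38_5 rfl
    (Fn.rangeOK_step hm38_4 rfl
    (Fn.rangeOK_step hm38_3 rfl
    (Fn.rangeOK_step hm38_2 rfl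
    (Fn.rangeOK_step hm38_1 rfl
    (Fn.rangeOK_step hm38_0 rfl
    (Fn.rangeOK_start TT [8, 1, 3, 5, 2, 5, 3, 2, 1, 2, 3, 5, 2, 0, 1, 2, 5, 3, 2, 1, 0, 8, 0, 1, 2, 3, 5, 2, 1, 0, 4, 3, 2, 5, 1, 2, 3, 0, 1, 2, 5, 4, 3, 2, 1, 0, 8, 0, 1, 2, 3, 4, 5, 2, 1, 0, 3, 2, 1, 5, 2, 3, 4] 1 tN)))))))))))))))))))))))))))))))))))))))))))))))))))))))))))))))))))))))))))))))))))))))))))))))))))))))))))))))))))))))))))))))))))))))))))))))))))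

theorem hfix39 : ∀ i < tN, (Fn.applyW TT (([0] : List ℕ), 2).1)^[(([0] : List ℕ), 2).2] i = i :=
  Fn.fix_of_rangeOK (Fn.rangeOK_step hm39_2 rfl
    (Fn.rangeOK_step hm39_1 rfl
    (Fn.rangeOK_step hm39_0 rfl
    (Fn.rangeOK_start TT [0] 2 tN))))

theorem hfix40 : ∀ i < tN, (Fn.applyW TT (([1] : List ℕ), 2).1)^[(([1] : List ℕ), 2).2] i = i :=
  Fn.fix_of_rangeOK (Fn.rangeOK_step hm40_2 rfl
    (Fn.rangeOK_step hm40_1 rfl
    (Fn.rangeOK_step hm40_0 rfl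
    (Fn.rangeOK_start TT [1] 2 tN))))

theorem hfix41 : ∀ i < tN, (Fn.applyW TT (([2] : List ℕ), 2).1)^[(([2] : List ℕ), 2).2] i = i :=
  Fn.fix_of_rangeOK (Fn.rangeOK_step hm41_2 rfl
    (Fn.rangeOK_step hm41_1 rfl
    (Fn.rangeOK_step hm41_0 rfl
    (Fn.rangeOK_start TT [2] 2 tN))))

theorem hfix42 : ∀ i < tN, (Fn.applyW TT (([3] : List ℕ), 2).1)^[(([3] : List ℕ), 2).2] i = i :=
  Fn.fix_of_rangeOK (Fn.rangeOK_step hm42_2 rfl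
    (Fn.rangeOK_step hm42_1 rfl
    (Fn.rangeOK_step hm42_0 rfl
    (Fn.rangeOK_start TT [3] 2 tN))))

theorem hfix43 : ∀ i < tN, (Fn.applyW TT (([4] : List ℕ), 2).1)^[(([4] : List ℕ), 2).2] i = i :=
  Fn.fix_of_rangeOK (Fn.rangeOK_step hm43_2 rfl
    (Fn.rangeOK_step hm43_1 rfl
    (Fn.rangeOK_step hm43_0 rfl
    (Fn.rangeOK_start TT [4] 2 tN))))

theorem hfix44 : ∀ i < tN, (Fn.applyW TT (([5] : List ℕ), 2).1)^[(([5] : List ℕ), 2).2] i = i :=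
  Fn.fix_of_rangeOK (Fn.rangeOK_step hm44_2 rfl
    (Fn.rangeOK_step hm44_1 rfl
    (Fn.rangeOK_step hm44_0 rfl
    (Fn.rangeOK_start TT [5] 2 tN))))

theorem hfix45 : ∀ i < tN, (Fn.applyW TT (([6] : List ℕ), 2).1)^[(([6] : List ℕ), 2).2] i = i :=
  Fn.fix_of_rangeOK (Fn.rangeOK_step hm45_2 rfl
    (Fn.rangeOK_step hm45_1 rfl
    (Fn.rangeOK_step hm45_0 rfl
    (Fn.rangeOK_start TT [6] 2 tN))))

theorem hfix46 : ∀ i < tN, (Fn.applyW TT (([7] : List ℕ), 2).1)^[(([7] : List ℕ), 2).2] i = i :=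
  Fn.fix_of_rangeOK (Fn.rangeOK_step hm46_2 rfl
    (Fn.rangeOK_step hm46_1 rfl
    (Fn.rangeOK_step hm46_0 rfl
    (Fn.rangeOK_start TT [7] 2 tN))))

theorem hfix47 : ∀ i < tN, (Fn.applyW TT (([8] : List ℕ), 2).1)^[(([8] : List ℕ), 2).2] i = i :=
  Fn.fix_of_rangeOK (Fn.rangeOK_step hm47_2 rfl
    (Fn.rangeOK_step hm47_1 rfl
    (Fn.rangeOK_step hm47_0 rfl
    (Fn.rangeOK_start TT [8] 2 tN))))

theorem hfix48 : ∀ i < tN, (Fn.applyW TT (([] : List ℕ), 1).1)^[(([] : List ℕ), 1).2] i = i :=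
  Fn.fix_of_rangeOK (Fn.rangeOK_step hm48_2 rfl
    (Fn.rangeOK_step hm48_1 rfl
    (Fn.rangeOK_step hm48_0 rfl
    (Fn.rangeOK_start TT [] 1 tN))))

theorem hfixall : Fn.FixAll TT tN specs :=
  Fn.fixAll_cons hfix0
    (Fn.fixAll_cons hfix1
    (Fn.fixAll_cons hfix2
    (Fn.fixAll_cons hfix3
    (Fn.fixAll_cons hfix4
    (Fn.fixAll_cons hfix5
    (Fn.fixAll_cons hfix6
    (Fn.fixAll_cons hfix7
    (Fn.fixAll_cons hfix8
    (Fn.fixAll_cons hfix9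
    (Fn.fixAll_cons hfix10
    (Fn.fixAll_cons hfix11
    (Fn.fixAll_cons hfix12
    (Fn.fixAll_cons hfix13
    (Fn.fixAll_cons hfix14
    (Fn.fixAll_cons hfix15
    (Fn.fixAll_cons hfix16
    (Fn.fixAll_cons hfix17
    (Fn.fixAll_cons hfix18
    (Fn.fixAll_cons hfix19
    (Fn.fixAll_cons hfix20
    (Fn.fixAll_cons hfix21
    (Fn.fixAll_cons hfix22
    (Fn.fixAll_cons hfix23
    (Fn.fixAll_cons hfix24
    (Fn.fixAll_cons hfix25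
    (Fn.fixAll_cons hfix26
    (Fn.fixAll_cons hfix27
    (Fn.fixAll_cons hfix28
    (Fn.fixAll_cons hfix29
    (Fn.fixAll_cons hfix30
    (Fn.fixAll_cons hfix31
    (Fn.fixAll_cons hfix32
    (Fn.fixAll_cons hfix33
    (Fn.fixAll_cons hfix34
    (Fn.fixAll_cons hfix35
    (Fn.fixAll_cons hfix36
    (Fn.fixAll_cons hfix37
    (Fn.fixAll_cons hfix38
    (Fn.fixAll_cons hfix39
    (Fn.fixAll_cons hfix40
    (Fn.fixAll_cons hfix41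
    (Fn.fixAll_cons hfix42
    (Fn.fixAll_cons hfix43
    (Fn.fixAll_cons hfix44
    (Fn.fixAll_cons hfix45
    (Fn.fixAll_cons hfix46
    (Fn.fixAll_cons hfix47
    (Fn.fixAll_cons hfix48
    (Fn.fixAll_nil TT tN)))))))))))))))))))))))))))))))))))))))))))))))))

theorem hrels : Fn.relsK TT cN baseL = true := by
  rw [hspecs]
  exact Fn.relsK_of_fixAll hfixall

end Cfsg.Agent.Lib.Helper12.TCG.Fi22Ie185328
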